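import Cfsg.Agent.H646.BR.LinType
import Cfsg.Agent.H674.BR.Model

/-!
# The semilinear version of `H646.BR.main` (helper870, S4829 box PA)

`semi_fix`: a semisimilarity `M` (twist `a ↦ a ^ r ^ i`) commuting with the Sylow `p`-subgroup `P` leaves the `P`-invariant
totally singular subspace `U` of dimension divisible by `d = ord_p |F|` invariant, if `p` divides no
`(s r ^ i) |F| ^ n + 1`.
-/

set_option autoImplicit false

open Module Subgroup Cfsg Polynomial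
open Cfsg.Agent.H2.Pol Cfsg.Agent.H674.BR Cfsg.Agent.H646.BR

namespace Cfsg.Agent.H870.CY

variable {F V : Type*} [Field F] [Fintype F] [AddCommGroup V] [Module F V] [FiniteDimensional F V] {Φ : Pol F V}
  {G : Type*} [Group G] [Finite G] {ρ : G →* (V ≃ₗ[F] V)} {p : ℕ} [hp : Fact p.Prime] {f : F[X]}

omit [Fintype F] [FiniteDimensional F V] [Finite G] in
theorem mv_sub {M : V ≃+ V} (hM : SemiAct Φ M) {g : G} (hMg : ∀ v : V, M (ρ g v) = ρ g (M v)) {U : Submodule F V}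
    (hU : mv ρ g U = U) : mv ρ g (hM.sub U) = hM.sub U := by
  ext v
  constructor
  · rintro ⟨_, ⟨x, hx, rfl⟩, rfl⟩
    refine ⟨ρ g x, ?_, hMg x⟩
    rw [← hU]
    exact mem_mv_of_mem hx
  · rintro ⟨x, hx, rfl⟩
    have hx' : x ∈ mv ρ g U := by rw [hU]; exact hx
    obtain ⟨w, hw, rfl⟩ := hx'
    exact ⟨M w, ⟨w, hw, rfl⟩, (hMg w).symm⟩

/-- `U ⊥ M U` -/
theorem orth_sub (hΦ : Pres Φ ρ) (hW : WittTS Φ ρ) {r : ℕ} [hr : Fact r.Prime] [CharP F r]
    (hpF : p.Coprime (Fintype.card F)) {s j : ℕ} (hs : s = r ^ j)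
    (hLa : ∀ x y y' : V, Φ.L (y + y') x = Φ.L y x + Φ.L y' x) (hLs : ∀ (a : F) (x y : V), Φ.L (a • y) x = a ^ s * Φ.L y x)
    (hf : Irreducible f) (hfc : f ∣ cyclotomic p F) (P : Sylow p G) {U : Submodule F V} (hU : Φ.TI U)
    (hPU : ∀ g ∈ P, mv ρ g U = U) (hd : f.natDegree ∣ finrank F U)
    {M : V ≃+ V} (hM : SemiAct Φ M) {i : ℕ} (hMi : ∀ (a : F) (v : V), M (a • v) = a ^ r ^ i • M v)
    (hMc : ∀ g ∈ P, ∀ v : V, M (ρ g v) = ρ g (M v))
    (hns : ∀ n : ℕ, ¬ p ∣ (s * r ^ i) * Fintype.card F ^ n + 1) : Φ.Orth U (hM.sub U) := by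
  obtain ⟨z, hzp, hz⟩ := exists_z (U := U) hf hfc hpF hd
  obtain ⟨a, ha⟩ := exists_conj (sylT hW P hU hPU) hzp
  obtain ⟨g, hg, hgz⟩ := exists_of_mem_sylT hW P hU hPU ha
  rintro x hx _ ⟨y, hy, rfl⟩
  have hs' : s * r ^ i = r ^ (j + i) := by rw [hs, pow_add]
  have key := form_zero (U := U) hf hfc hpF hs' hns ((a * z * a⁻¹ : U ≃ₗ[F] U) : U →ₗ[F] U) (aeval_conj a z hz)
    (fun x y => Φ.L (M (y : V)) (x : V))
    (fun x x' y => map_add _ _ _) (fun a x y => map_smul _ _ _)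
    (fun x y y' => by
      change Φ.L (M ((y : V) + y')) (x : V) = _
      rw [map_add, hLa])
    (fun a x y => by
      change Φ.L (M (a • (y : V))) (x : V) = _
      rw [hMi, hLs, ← pow_mul, mul_comm (r ^ i) s])
    (fun x y => by
      change Φ.L (M (((a * z * a⁻¹ : U ≃ₗ[F] U) y : U) : V)) (((a * z * a⁻¹ : U ≃ₗ[F] U) x : U) : V) = _
      rw [← hgz, ← hgz, hMc g hg, (hΦ g).1])
  exact key ⟨x, hx⟩ ⟨y, hy⟩

omit [Fintype F] [FiniteDimensional F V] in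
theorem TI_sup {U W : Submodule F V} (hU : Φ.TI U) (hW : Φ.TI W) (h : Φ.Orth U W) : Φ.TI (U ⊔ W) := by
  have h1 : Φ.Orth W U := (Φ.orth_comm).1 h
  have h2 : Φ.Orth (U ⊔ W) (U ⊔ W) := by
    rw [Pol.orth_iff_le_perp]
    refine sup_le ?_ ?_
    · rw [← Pol.orth_iff_le_perp, Pol.orth_comm, Pol.orth_iff_le_perp]
      refine sup_le ?_ ?_
      · rw [← Pol.orth_iff_le_perp]
        exact hU.2
      · rw [← Pol.orth_iff_le_perp]
        exact h1
    · rw [← Pol.orth_iff_le_perp, Pol.orth_comm, Pol.orth_iff_le_perp]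
      refine sup_le ?_ ?_
      · rw [← Pol.orth_iff_le_perp]
        exact h
      · rw [← Pol.orth_iff_le_perp]
        exact hW.2
  refine ⟨fun v hv => ?_, h2⟩
  obtain ⟨x, hx, y, hy, rfl⟩ := Submodule.mem_sup.1 hv
  exact Φ.sing_add x y (hU.1 x hx) (hW.1 y hy) (h x hx y hy)

/-- **BOX PA**: a semisimilarity commuting with `P` leaves `U` invariant ("no swap") -/
theorem semi_fix (hΦ : Pres Φ ρ) (hW : WittTS Φ ρ) {r : ℕ} [hr : Fact r.Prime] [CharP F r]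
    (hpF : p.Coprime (Fintype.card F)) {s j : ℕ} (hs : s = r ^ j)
    (hLa : ∀ x y y' : V, Φ.L (y + y') x = Φ.L y x + Φ.L y' x) (hLs : ∀ (a : F) (x y : V), Φ.L (a • y) x = a ^ s * Φ.L y x)
    {f : F[X]} (hf : Irreducible f) (hfc : f ∣ cyclotomic p F) (P : Sylow p G) {U : Submodule F V} (hU : Φ.TI U)
    (hPU : ∀ g ∈ P, mv ρ g U = U) (hd : f.natDegree ∣ finrank F U)
    {M : V ≃+ V} (hM : SemiAct Φ M) {i : ℕ} (hMi : ∀ (a : F) (v : V), M (a • v) = a ^ r ^ i • M v)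
    (hMc : ∀ g ∈ P, ∀ v : V, M (ρ g v) = ρ g (M v))
    (hns : ∀ n : ℕ, ¬ p ∣ (s * r ^ i) * Fintype.card F ^ n + 1) : hM.sub U = U := by
  have hp0 : (Nat.card (P : Subgroup G) : F) ≠ 0 := by
    obtain ⟨k, hk⟩ := IsPGroup.iff_card.1 P.2
    rw [hk, Nat.cast_pow]
    apply pow_ne_zero
    obtain ⟨r, hr⟩ := CharP.exists F
    obtain ⟨k, hrp, hk⟩ := FiniteField.card F r
    intro h
    have h1 : r ∣ p := (CharP.cast_eq_zero_iff F r p).1 h
    have h2 : r ∣ Nat.gcd p (Fintype.card F) := Nat.dvd_gcd h1 (by rw [hk]; exact dvd_pow_self r k.ne_zero)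
    rw [hpF] at h2
    exact hrp.one_lt.ne' (Nat.dvd_one.1 h2)
  have hO := orth_sub hΦ hW hpF hs hLa hLs hf hfc P hU hPU hd hM hMi hMc hns
  set T := U ⊔ hM.sub U with hTd
  have hT : Φ.TI T := TI_sup hU (hM.ti hU) hO
  have hUT : U ≤ T := le_sup_left
  have hMUT : hM.sub U ≤ T := le_sup_right
  have hPT : ∀ g ∈ P, mv ρ g T = T := by
    intro g hg
    apply mv_eq_of_le
    rw [hTd, mv, Submodule.map_sup]
    have h1 : U.map (ρ g : V →ₗ[F] V) = U := hPU g hg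
    have h2 : (hM.sub U).map (ρ g : V →ₗ[F] V) = hM.sub U := mv_sub hM (hMc g hg) (hPU g hg)
    rw [h1, h2]
  -- the complement
  obtain ⟨C, hCT, hPC, hUC1, hUC2⟩ := exists_compl (ρ := ρ.comp (P : Subgroup G).subtype) (F := F) hp0
    (U := U) (T := T) (fun g => hPU g.1 g.2) (fun g => hPT g.1 g.2) hUT
  have hUC : IsCompl (U.comap T.subtype) (C.comap T.subtype) := by
    constructor
    · rw [disjoint_iff, eq_bot_iff]
      rintro x ⟨hx1, hx2⟩
      rw [Submodule.mem_bot]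
      apply Subtype.ext
      have h1 : (x : V) ∈ U ⊓ C := ⟨hx1, hx2⟩
      rw [hUC1] at h1
      exact (Submodule.mem_bot F).1 h1
    · rw [codisjoint_iff, eq_top_iff]
      rintro x -
      obtain ⟨u, hu, w, hw, huw⟩ := Submodule.mem_sup.1 (show (x : V) ∈ U ⊔ C by rw [hUC2]; exact x.2)
      rw [show x = (⟨u, hUT hu⟩ : T) + ⟨w, hCT hw⟩ from Subtype.ext huw.symm]
      exact Submodule.add_mem_sup hu hw
  have hfr : finrank F (U.comap T.subtype) = finrank F U := (Submodule.comapSubtypeEquivOfLe hUT).finrank_eq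
  obtain ⟨y, hyQ, hy1, hy2, hy3⟩ := exists_y hpF hf hfc (sylT hW P hT hPT) hUC
    (by
      intro g hg x hx
      obtain ⟨a, ha, hax⟩ := exists_of_mem_sylT hW P hT hPT hg
      change ((g x : T) : V) ∈ U
      rw [← hax, ← hPU a ha]
      exact mem_mv_of_mem hx)
    (by
      intro g hg x hx
      obtain ⟨a, ha, hax⟩ := exists_of_mem_sylT hW P hT hPT hg
      change ((g x : T) : V) ∈ C
      have h1 : mv ρ a C = C := hPC ⟨a, ha⟩
      rw [← hax, ← h1]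
      exact mem_mv_of_mem hx)
    (by rw [hfr]; exact hd)
  obtain ⟨g, hg, hgy⟩ := exists_of_mem_sylT hW P hT hPT hyQ
  -- `U = (y - 1) U`
  have hsurj : ∀ x ∈ U, ∃ w ∈ U, ρ g w - w = x := by
    intro x hx
    let τ : (U.comap T.subtype) →ₗ[F] (U.comap T.subtype) :=
      ((y : T →ₗ[F] T) - LinearMap.id).restrict (fun w _ => hy2 w)
    have hτ : Function.Injective τ := by
      rw [injective_iff_map_eq_zero]
      intro w hw
      have h1 : y w.1 - w.1 = 0 := congrArg Subtype.val hw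
      exact Subtype.ext (hy3 w.1 w.2 (sub_eq_zero.1 h1))
    obtain ⟨w, hw⟩ := (LinearMap.injective_iff_surjective.1 hτ) ⟨⟨x, hUT hx⟩, hx⟩
    have h1 : y w.1 - w.1 = ⟨x, hUT hx⟩ := congrArg Subtype.val hw
    refine ⟨w.1, w.2, ?_⟩
    rw [hgy]
    exact congrArg Subtype.val h1
  refine Submodule.eq_of_le_of_finrank_eq ?_ (hM.finrank U)
  rintro _ ⟨x, hx, rfl⟩
  obtain ⟨w, hw, rfl⟩ := hsurj x hx
  have h1 : M w ∈ T := hMUT ⟨w, hw, rfl⟩
  change M (ρ g w - w) ∈ U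
  rw [map_sub, hMc g hg]
  have h2 := hy2 ⟨M w, h1⟩
  have h3 : ((y ⟨M w, h1⟩ : T) : V) = ρ g (M w) := (hgy _).symm
  change ((y ⟨M w, h1⟩ : T) : V) - M w ∈ U at h2
  rwa [h3] at h2

end Cfsg.Agent.H870.CY
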